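import Cfsg.Agent.H15.OrbitCheck
import Cfsg.Agent.H15.Data.Gens

/-! Certified orbit S275x112 of the group St275. -/

set_option autoImplicit false

namespace Cfsg.Agent.H15.Data

/-- The orbit S275x112. -/
def certS275x112 : OrbitCert where
  n := 112
  pts := [0x579777977777977997977977597779777977777977997977577977977979779977777977579777997977777779797977488888888884888888888888688868888868866868868886577999797977777777777997577779997797777977779977577799977779777779977977597977979977777777797797488888888888888888848888488888888888848888888888577797777997777779997797577777797777779979977997577797999977777977977777577777979999777779779777597977777777777997779997668886886888686888868886577977777977997977977797688886886886868866888886577977977797977779777997597797977997777797777977577777979797779777997977579777977797777797799797597797779777977777977997577777977777799799779977577777997997799777777797597777977977979779977777488888848888888888888888579979977997777777977777577779977977777999777797488884888888888888888888599777777797777779979977579777779997777977777997577779777797797797977997686666888886886888888886577797797777777797999977577777977979797797997777577977977777777979999777577777777977979797797997488888888888488888888888577797977797997777979777688686868868668888888886668668866888888868888886577997977777779797977797597779979777777797979777577979977779797777779797488888888848888888888888577777999779777797777997577977777997797777799977579777979777797779977797597777977799777977977797686868886888668688888886484888888888888888888888597777977779977777799977577777797979777977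799797577979777777979777979977488848888888888888888888488888884888888888888888577977779977777799977977488888888888884888888888597777777979797779777997597977997777797777977977666888868888866886888886577779997777977777997797577799977977779777799777579997979777777777779977577779779777777779799997488888888888888884888888597997777979777777979777488888888888888488888888599777977977797977779777579777797777997777779997579797777977799777977977577777979777979977779797579977777779777777997997577977997977977797779777577797777977977979779977668688888886868688868886577779979977997777777977577797977777797977797997448888888888888888888888597797997777777779779797597777799977779777779977577797777799779777779997488488888888888888888888577797779977797797779797577777779779797977979977577779779979779777977797597779777997977777779797579797977979977777777797686888868886688868868886597777777777799777999797488888888888888848888888599779977777779777777997577777777997779997979777577777777779977799979797579777779977977777999777579799777777777977979797599777797977777797977797577779797977797779979777577977799797777777979797579779777979777797779977577777797999977777977977688888866866886688888886688688888888686666888886668868888866688886888886686688886868888886868886666886888868888668888886579777997779779777979777579977777977779779779797688866868888888686868886]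
  edges := [0x66100610005b100591005900055100550005410050100500004d0004c1004b10048100470004610046000410003d0003b1003a1003a00039100390003810037000360003400033100311003100030100300002f1002f0002e1002e0002d1002d0002c1002b0002a1002a000291002900028100270002600025100250002400023100230002210022000211002100020100200001f1001f0001e1001e0001d0001c1001c0001b0001a1001a0001900018100180001710017000161001500014100140001310012100120001100010100100000f1000e1000d1000d0000c0000b1000a1000a00009100081000800007100070000610006000051000500004100040000310003000021000200001100010000010000000000]
  srt := [0x7005c006a0000000600450014003b0004004c005e0005002100440030000300110028000c004f002a00310066005f001d005a005700420016006e0054003c0039001c00320013002d005200010024000d001500260009006c0002003d0058006f0027004e000e00690043004100370023006d005b0049000a0034003e005d002e006700610046001f004b001900630022001b0068002f00200051000b0017002c004d003f0055006000590025004a0056000800380062001800100048000f0065002b00120029003300640047006b00400035005300500036001a003a001e]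

theorem certS275x112_ok : certS275x112.ok pcsSt275 = true := by decide +kernel

end Cfsg.Agent.H15.Data
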