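import Cfsg.Agent.H15.OrbitCheck
import Cfsg.Agent.H15.Data.Gens

/-! Certified orbit C100 of the group HS. -/

set_option autoImplicit false

namespace Cfsg.Agent.H15.Data

/-- The orbit C100. -/
def certC100 : OrbitCert where
  n := 100
  pts := [0x68668888888886886868688666668888868868888888868677777777777777777b77777766886888886668888688888668888888886886868688686668886868888688866888688668686888888888886688866668688686688888888868868677b777777777777777777777688888666888868888866886686888868886688868868886668868888688886688888866686868868668888888886886688688868688886888668886668888888688888866866886666888868888866886888886688668888868888688688686668888688888668868888866777777b7777777777777777777777777777777b777777777777b7777777777777777777768888688688686886688888677777777777777777777b7776888886886686886888688866866888868688888868688866688888688886886886868866866668888868868888888866886688888886888888668667777b7777777777777777777666888886886888888886866688868886888886886686886688886688888866688688886688686688888888868868686777777777777777777b777776888888666886888868888666888888668668866888888866868688868886686888888867777777777777b777777777768888886868886866888868666866886688888886888888677777b7777777777777777776888686688886868888886866886888886668888688888666866886688888886888888666888888868888886686688666868868886888688888688666688866686868888888888866888688888688668688688866688868868886868888688866686886888688868888868867777777777b77777777777776888868886688868868886866886868688686688888888866868886888668688888886866888668886886888686888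86777777777b7777777777777768888868868888888868666668688868668888686888888668868888888868666688888668688888886868688868886668868688668888868888688666688688886888866888888677777777777b777777777777777777777777777777777b776868888886868886866888866888868688888868688868666888868888866886888886666888688866868888888686866688886868888886868886866888886688688888666888866688888888868868686886866886686886888688868888867777777777777777b77777776888868888668888886668867777777777777777777b77777b7777777777777777777777688866686868888888888866688888886868688868886686688888888686666888886886688688886888866888888666688688686886688888688886688888688886886886868866686888888888886688866686668686888888888886688866777777777777b777777777776888888888886688866686867777777b77777777777777776868866888886888868868867777777777777777777777b777777777b777777777777777688688868886888886886686688868868886868888688866668866888888868888886686777777777777777b77777777668888886668868888688886668688888886868688868886666868688888888888668886688866868888888686868886668888868868888888868666488888888888888888888884]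
  edges := [0x500004d1004c0004b10048100461004600044100440004300040100400003f1003d1003c1003c00036100350003410033100330003100030100300002f1002f0002e1002e0002d0002c1002c0002b1002b0002a0002910029000281002800027000261002600023100230002110021000200001f1001f0001e1001e0001d1001c1001c0001b1001b0001a1001a000191001900018100180001710017000161001410013000121001100010100100000f1000f0000e1000e0000d1000d0000c1000c0000b0000a1000a000091000810008000071000700006100060000510005000041000400003100030000200001100010000010000000000]
  srt := [0x18005b004f0047003b0051000d000a002c00310025000f003e00500006001b006100420019004d0024000b000e005f001500370016003d004000410012002b004c001e005a0021001a0030004e002200440034004500200008005e003a002d000200170029003900140009005600130027002f004300480053001c0011002800230059002e002a0036005c000c005d003f00570063004b00380049001d00550005004a00010052001f00330035006000580007000400320010003c004600540026000300620000]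

theorem certC100_ok : certC100.ok pcsHS = true := by decide +kernel

end Cfsg.Agent.H15.Data
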