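import Cfsg.Agent.H15.OrbitCheck
import Cfsg.Agent.H15.Data.Gens

/-! Certified orbit S100x22 of the group St100. -/

set_option autoImplicit false

namespace Cfsg.Agent.H15.Data

/-- The orbit S100x22. -/
def certS100x22 : OrbitCert where
  n := 22
  pts := [0x77777777777b7777777777777777777777777777777777b77777b77777777777777777777777777777777777b77777777777777b7777777777777777777777777777777777b7777777777777777777777b777777777777777777777777777b7777777b7777777777777777777777777777777b7777777777777777777777777b77777777777777777777b7777777777777777777777777777777b77777777777b777777777777777777777b77777777777777777777b777777777777777777777777777777b77777777777777777777777777777777b777777777777777777b77777777777b777777777777777777777777777777b777777777777777b7777777777777777777777]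
  edges := [0x120000e1000d0000c1000b1000a1000a0000910009000080000700006100060000500004000030000210002000011000010000000000]
  srt := [0x200060013000d000700110008000100050015000a000c0003000b0012000f001000040009000e0014]

theorem certS100x22_ok : certS100x22.ok pcsSt100 = true := by decide +kernel

end Cfsg.Agent.H15.Data
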