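import Cfsg.Agent.H15.OrbitCheck
import Cfsg.Agent.H15.Data.Gens

/-! Certified orbit S100x77 of the group St100. -/

set_option autoImplicit false

namespace Cfsg.Agent.H15.Data

/-- The orbit S100x77. -/
def certS100x77 : OrbitCert where
  n := 77
  pts := [0x688888888868868686886866686888688866868888888686668866888888868888886686688688686886688888688886686868888888888866888666688686886688888688886886688888886888888668668866668888886668868888688886688888866688688886888866688868668888686888888686666888886886888888886866688688888666888868888866688886688888866688688886688888868688868668888686688886868888886868886866668868888866688886888886688668888888688888866866686666888886886888888886688868888868866868868886668688688868886888886886688886888886688688888666688888668868888866688886688888888888668886668686686888888868686888688866668888888688888866866886688668888868888688688686688866868888888686868886668888888886886868688686668686888888888886688866688888666888868888866886688688868688886888668886668888686888888686888686688688868886888886886686686886866888888888688686688866888688688868688886688868886888886886686886688686688888888868868686668886668686888888888886686886888688868888868866686888686688886868888886688868688886888668886886688868868886868888688866686868886888668688888886666888868888866886888886666688888688688888888686686886688888688886886886688888888686666888886886686688886868888886868886688888688668688688868886688688888888686666888886668888868888688688686886686888868886688868868886688686868868668888888886686888888888886688866686688888866866886688888886668888868868888888868666688886886886868866888886688866686868888888888866668868888688886688888866668668866888888868888886666868688888888888668886688668688688868886888886668688888886868688868886686688668888888688888866686888888686888686688886688888886868688868886686688886888866888888666886688886888668886886888686668886886888686888868886688888688886886886868866668888688888668868888866686688888888868868686886686868868668888888886886688868886686888888868686688688886888866888888666666886888868888668888886688888688688888888686666]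
  edges := [0x48100421003e1003a00038000371003610035100331003200031100310002f0002d0002c0002a0002810027100261002510024000221002200020100200001f1001f0001e1001e0001d0001c1001c0001b0001a1001810018000170001610015100150001410014000130001210012000111001100010100100000f1000f0000e1000d1000d0000c1000c0000b0000a000091000900008100080000710007000060000510005000041000400003100021000200001100010000010000000000]
  srt := [0x36004c001e0046000b003f0016004400070000001c0037002f0038000a00090014003e0040003a00290003002300240043002a00320013001b00410002002c002e0049004700180028003c0033000f00170035000c0019004b00250026002b001f0048002200040005001d000d003b003100340045001a00150006002d00080027003d0012004a000e00390030001100420021000100100020]

theorem certS100x77_ok : certS100x77.ok pcsSt100 = true := by decide +kernel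

end Cfsg.Agent.H15.Data
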